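import Cfsg.Agent.H826.Pairs

/-!
# Elementary abelian groups of products of two commuting transvections of `F4 ^ 6`
-/

set_option autoImplicit false

namespace Cfsg.Agent.H826.Groups

open Cfsg.Agent.SporRec.GF4 Cfsg.Agent.R08 Cfsg.Agent.R08.Iface Cfsg.Agent.R08.InvHerm
open Cfsg.Agent.R08.InvM Cfsg.Agent.R08.InvP Cfsg.Agent.H826.Perp Cfsg.Agent.H826.Pairs
open Cfsg.Agent.R08.ModVec (W)

theorem T2_add (r1 r2 x y : W) : T2 r1 r2 (x + y) = T2 r1 r2 x + T2 r1 r2 y := by
  rw [T2, T2, T2, H_add_left hF, H_add_left hF, add_smul, add_smul]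
  abel

theorem T2_isR {r1 r2 x : W} (p : RPair r1 r2) (hx : IsR x) : IsR (T2 r1 r2 x) := by
  have h : T2 r1 r2 x = tr r1 (tr r2 x) := by
    rw [tr, tr, T2, H_add_left hF, H_smul_left hF, H_zero_swap hF p.perp, mul_zero, add_zero,
      add_right_comm]
  rw [h]
  exact Geo.isR_tr p.h1 (Geo.isR_tr p.h2 hx)

theorem card_le_of_smul {U X : AddSubgroup W} (hUX : U ≤ X) (hX : ∀ (c : F4) (x : W), x ∈ X → c • x ∈ X)
    {ω : F4} (hU : ∀ y ∈ U, ω • y ∈ U → y = 0) : Nat.card U * Nat.card U ≤ Nat.card X := by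
  rw [← Nat.card_prod]
  apply Nat.card_le_card_of_injective
    (fun p : U × U => (⟨p.1 + ω • (p.2 : W), X.add_mem (hUX p.1.2) (hX _ _ (hUX p.2.2))⟩ : X))
  rintro ⟨x, y⟩ ⟨x', y'⟩ h
  have h1 : (x : W) + ω • (y : W) = x' + ω • (y' : W) := congrArg Subtype.val h
  have h2 : (x : W) + x' = ω • ((y : W) + y') := by
    have h3 := congrArg (fun t : W => t + (x' + ω • (y : W))) h1
    beta_reduce at h3
    rw [smul_add]
    have e1 : (x : W) + ω • (y : W) + (x' + ω • (y : W)) =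
        (x + x') + (ω • (y : W) + ω • (y : W)) := by abel
    have e2 : (x' : W) + ω • (y' : W) + (x' + ω • (y : W)) =
        ((x' : W) + x') + (ω • (y : W) + ω • (y' : W)) := by abel
    rw [e1, e2, vadd_self hF, vadd_self hF, add_zero, zero_add] at h3
    exact h3
  have h3 := hU _ (U.add_mem y.2 y'.2) (by rw [← h2]; exact U.add_mem x.2 x'.2)
  rw [h3, smul_zero] at h2
  exact Prod.ext (Subtype.ext ((vadd_eq_zero hF).1 h2)) (Subtype.ext ((vadd_eq_zero hF).1 h3))

theorem smul_pp_sp2 {r1 r2 : W} (c : F4) {x : W} (h : x ∈ pp (sp2 r1 r2)) : c • x ∈ pp (sp2 r1 r2) := by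
  rw [mem_pp_sp2] at h ⊢
  rw [H_smul_left hF, H_smul_left hF, h.1, h.2, mul_zero]
  exact ⟨rfl, rfl⟩

variable {E : Subgroup (Equiv.Perm W)}

theorem exists_two (h3 : 3 ≤ Nat.card E) : ∃ e ∈ E, ∃ e' ∈ E, e ≠ 1 ∧ e' ≠ 1 ∧ e ≠ e' := by
  by_contra hcon
  push Not at hcon
  by_cases h1 : ∃ e ∈ E, e ≠ 1
  · obtain ⟨e, he, he1⟩ := h1
    have hsub : (E : Set (Equiv.Perm W)) ⊆ {1, e} := by
      intro x hx
      by_cases hx1 : x = 1
      · left; exact hx1
      · right; exact (hcon e he x hx he1 hx1).symm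
    have h4 := Set.ncard_le_ncard hsub (Set.toFinite _)
    have h5 := Set.ncard_insert_le (1 : Equiv.Perm W) {e}
    rw [Set.ncard_singleton] at h5
    have h6 : Nat.card E = (E : Set (Equiv.Perm W)).ncard := rfl
    omega
  · push Not at h1
    have : E = ⊥ := by
      rw [eq_bot_iff]
      intro x hx
      exact h1 x hx
    rw [this, Subgroup.card_bot] at h3
    omega

/-- either the fixed space is small, or everything happens in a nice subspace -/
theorem dichotomy (hE : ∀ e ∈ E, e ≠ 1 → ∃ r1 r2, RPair r1 r2 ∧ (e : W → W) = T2 r1 r2)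
    (h3 : 3 ≤ Nat.card E) {U : AddSubgroup W} (hU : ∀ e ∈ E, ∀ u ∈ U, e u = u) (hUU : U ≤ pp U) :
    Nat.card U ≤ 16 ∨ ∃ N, Nice N ∧ U ≤ N ∧ ∀ e ∈ E, e ≠ 1 → Tr N e := by
  by_cases hbad : ∃ e ∈ E, ∃ e' ∈ E, ∃ r1 r2 r3 r4 : W, RPair r1 r2 ∧ RPair r3 r4 ∧
      (e : W → W) = T2 r1 r2 ∧ (e' : W → W) = T2 r3 r4 ∧ H r1 r3 ≠ 0
  · left
    obtain ⟨e, he, e', he', r1, r2, r3, r4, p, p', h1, h2, h13⟩ := hbad
    apply card_le_of_bad p h13 _ hUU
    intro u hu
    have h4 := hU e he u hu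
    have h5 := hU e' he' u hu
    rw [h1, T2_fix p, mem_pp_sp2] at h4
    rw [h2, T2_fix p', mem_pp_sp2] at h5
    exact mem_pp_sp3.2 ⟨h4.1, h4.2, h5.1⟩
  · right
    push Not at hbad
    have orth : ∀ e ∈ E, ∀ e' ∈ E, ∀ r1 r2 r3 r4 : W, RPair r1 r2 → RPair r3 r4 →
        (e : W → W) = T2 r1 r2 → (e' : W → W) = T2 r3 r4 →
        H r1 r3 = 0 ∧ H r1 r4 = 0 ∧ H r2 r3 = 0 ∧ H r2 r4 = 0 := by
      intro e he e' he' r1 r2 r3 r4 p p' h1 h2
      have ps := p.symm hF Geo.geo
      have ps' := p'.symm hF Geo.geo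
      have h1s : (e : W → W) = T2 r2 r1 := by rw [h1, T2_swap]
      have h2s : (e' : W → W) = T2 r4 r3 := by rw [h2, T2_swap]
      exact ⟨hbad e he e' he' _ _ _ _ p p' h1 h2, hbad e he e' he' _ _ _ _ p ps' h1 h2s,
        hbad e he e' he' _ _ _ _ ps p' h1s h2, hbad e he e' he' _ _ _ _ ps ps' h1s h2s⟩
    obtain ⟨e, he, e', he', he1, he1', hne⟩ := exists_two h3
    obtain ⟨r1, r2, p, h1⟩ := hE e he he1
    obtain ⟨r3, r4, p', h2⟩ := hE e' he' he1'
    obtain ⟨h13, h14, h23, h24⟩ := orth e he e' he' _ _ _ _ p p' h1 h2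
    obtain ⟨N, hN, -, -, -, -, hNe⟩ := exists_nice p p' (fun h => hne
      (Equiv.coe_fn_injective (h1.trans (h.symm.trans h2.symm)))) h13 h14 h23 h24
    refine ⟨N, hN, ?_, ?_⟩
    · intro u hu
      rw [hNe, AddSubgroup.mem_inf, ← T2_fix p, ← T2_fix p', ← h1, ← h2]
      exact ⟨hU e he u hu, hU e' he' u hu⟩
    · intro f hf hf1
      obtain ⟨r5, r6, q, hfq⟩ := hE f hf hf1
      obtain ⟨a1, a2, a3, a4⟩ := orth f hf e he _ _ _ _ q p hfq h1
      obtain ⟨b1, b2, b3, b4⟩ := orth f hf e' he' _ _ _ _ q p' hfq h2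
      refine ⟨r5, ?_, r6, ?_, q, hfq⟩
      · rw [hNe, AddSubgroup.mem_inf, mem_pp_sp2, mem_pp_sp2]
        exact ⟨⟨a1, a2⟩, b1, b2⟩
      · rw [hNe, AddSubgroup.mem_inf, mem_pp_sp2, mem_pp_sp2]
        exact ⟨⟨a3, a4⟩, b3, b4⟩

/-- the fixed space inside the fixed space of a semilinear map -/
theorem card_le_of_semi (hE : ∀ e ∈ E, e ≠ 1 → ∃ r1 r2, RPair r1 r2 ∧ (e : W → W) = T2 r1 r2)
    (h3 : 3 ≤ Nat.card E) {U : AddSubgroup W} (hU : ∀ e ∈ E, ∀ u ∈ U, e u = u) {f : W → W}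
    (hf : IsSemi f) (hfU : ∀ u ∈ U, f u = u) : Nat.card U ≤ 8 := by
  obtain ⟨e, he, e', he', he1, he1', hne⟩ := exists_two h3
  obtain ⟨r1, r2, p, h1⟩ := hE e he he1
  obtain ⟨r3, r4, p', h2⟩ := hE e' he' he1'
  have hX := card_inf_le p p' (fun h => hne
    (Equiv.coe_fn_injective (h1.trans (h.symm.trans h2.symm))))
  obtain ⟨ω, hω⟩ := exists_omega hF
  obtain ⟨hω0, hω1⟩ := omega_ne hF hω
  have h4 := card_le_of_smul (U := U) (X := pp (sp2 r1 r2) ⊓ pp (sp2 r3 r4)) (ω := ω)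
    (fun u hu => by
      rw [AddSubgroup.mem_inf, ← T2_fix p, ← T2_fix p', ← h1, ← h2]
      exact ⟨hU e he u hu, hU e' he' u hu⟩)
    (fun c x hx => ⟨smul_pp_sp2 c hx.1, smul_pp_sp2 c hx.2⟩)
    (fun y hy hy' => by
      have h5 := hfU _ hy'
      rw [hf.smul, hfU y hy, ← sub_eq_zero, ← sub_smul] at h5
      rcases smul_eq_zero.1 h5 with h6 | h6
      · exfalso
        rcases sq_eq_self hF (sub_eq_zero.1 h6) with h7 | h7
        · exact hω0 h7
        · exact hω1 h7
      · exact h6)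
  by_contra hlt
  push Not at hlt
  have h5 : 9 * 9 ≤ Nat.card U * Nat.card U := Nat.mul_le_mul hlt hlt
  omega

/-- a nice subspace invariant under a large group for `N` lies in `N` -/
theorem le_of_stable {N N' : AddSubgroup W} (hN : Nice N) (hN' : Nice N')
    (hE : ∀ e ∈ E, e ≠ 1 → Tr N e) (hcard : 11 ≤ Nat.card E)
    (hst : ∀ e ∈ E, ∀ x ∈ N', e x ∈ N') : N' ≤ N := by
  by_contra hnot
  obtain ⟨p, hp, hpR, hpN⟩ : ∃ p ∈ N', IsR p ∧ p ∉ N := by
    by_contra hcon
    push Not at hcon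
    exact hnot (hN'.span N hN.smul fun r hr hR => hcon r hr hR)
  have hadd : ∀ e ∈ E, ∀ x y : W, e (x + y) = e x + e y := by
    intro e he x y
    by_cases h1 : e = 1
    · rw [h1]; rfl
    · obtain ⟨r1, -, r2, -, -, h⟩ := hE e he h1
      rw [h, T2_add]
  have hfix : ∀ e ∈ E, ∀ x ∈ N, e x = x := by
    intro e he x hx
    by_cases h1 : e = 1
    · rw [h1]; rfl
    · exact (hE e he h1).fix hN hx
  have hdiff : ∀ e ∈ E, ∀ x : W, e x + x ∈ N := by
    intro e he x
    by_cases h1 : e = 1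
    · rw [h1]
      show x + x ∈ N
      rw [vadd_self hF]; exact N.zero_mem
    · exact (hE e he h1).add_mem hN x
  have hisR : ∀ e ∈ E, IsR (e p) := by
    intro e he
    by_cases h1 : e = 1
    · rw [h1]; exact hpR
    · obtain ⟨r1, -, r2, -, q, h⟩ := hE e he h1
      rw [h]
      exact T2_isR q hpR
  have hmul : ∀ e ∈ E, ∀ e' ∈ E, (e * e') p + p = (e p + p) + (e' p + p) := by
    intro e he e' he'
    have h1 : e' p = (e' p + p) + p := by rw [add_assoc, vadd_self hF, add_zero]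
    have h2 : (e * e') p = e (e' p) := rfl
    rw [h2, h1, hadd e he, hfix e he _ (hdiff e' he' p)]
    have h3 := vadd_self hF p
    calc e' p + p + e p + p = (e p + p) + (e' p + p) := by abel
      _ = (e p + p) + (e' p + p + p + p) := by
        rw [add_assoc (e' p + p) p p, h3, add_zero]
  let φ : E →* Multiplicative W :=
    { toFun := fun e => Multiplicative.ofAdd ((e : Equiv.Perm W) p + p)
      map_one' := by
        apply Multiplicative.toAdd.injective
        exact vadd_self hF p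
      map_mul' := by
        intro e e'
        apply Multiplicative.toAdd.injective
        exact hmul e e.2 e' e'.2 }
  let D : AddSubgroup W :=
    { carrier := {d | ∃ e ∈ E, e p + p = d}
      zero_mem' := ⟨1, E.one_mem, vadd_self hF p⟩
      add_mem' := by
        rintro _ _ ⟨e, he, rfl⟩ ⟨e', he', rfl⟩
        exact ⟨e * e', E.mul_mem he he', hmul e he e' he'⟩
      neg_mem' := by
        intro x hx
        rw [vneg hF]; exact hx }
  have hker : Nat.card φ.ker ≤ 2 := by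
    have hk : ∀ e : φ.ker, ((e : E) : Equiv.Perm W) p = p := by
      intro e
      have h1 : Multiplicative.ofAdd (((e : E) : Equiv.Perm W) p + p) = 1 := e.2
      have h2 : ((e : E) : Equiv.Perm W) p + p = 0 := Multiplicative.ofAdd.injective h1
      exact (vadd_eq_zero hF).1 h2
    by_cases h1 : ∃ e : φ.ker, e ≠ 1
    · obtain ⟨e, he⟩ := h1
      have hsub : (Set.univ : Set φ.ker) ⊆ {1, e} := by
        intro x _
        by_cases hx1 : x = 1
        · left; exact hx1
        · right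
          have hne : ∀ y : φ.ker, y ≠ 1 → ((y : E) : Equiv.Perm W) ≠ 1 :=
            fun y hy h => hy (Subtype.ext (Subtype.ext h))
          have h3 := eq_of_fix hN (hE _ (x : E).2 (hne x hx1)) (hE _ (e : E).2 (hne e he)) (hk x) (hk e) hpN
          exact Subtype.ext (Subtype.ext (Equiv.coe_fn_injective h3))
      have h4 := Set.ncard_le_ncard hsub (Set.toFinite _)
      have h5 := Set.ncard_insert_le (1 : φ.ker) {e}
      rw [Set.ncard_singleton] at h5
      rw [Set.ncard_univ] at h4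
      omega
    · push Not at h1
      have : φ.ker = ⊥ := by
        rw [eq_bot_iff]
        intro x hx
        exact congrArg Subtype.val (h1 ⟨x, hx⟩)
      rw [this, Subgroup.card_bot]
      omega
  have hrange : Nat.card φ.range ≤ Nat.card D := by
    apply Nat.card_le_card_of_injective (fun y : φ.range => (⟨Multiplicative.toAdd y.1, by
      obtain ⟨e, he⟩ := y.2
      rw [← he]
      exact ⟨e, e.2, rfl⟩⟩ : D))
    intro y y' h
    exact Subtype.ext (congrArg (fun t : D => (t : W)) h)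
  have hE2 : Nat.card E ≤ 2 * Nat.card D := by
    rw [← Subgroup.card_mul_index φ.ker, Subgroup.index_ker]
    exact Nat.mul_le_mul hker hrange
  obtain ⟨ω, hω⟩ := exists_omega hF
  obtain ⟨hω0, hω1⟩ := omega_ne hF hω
  have hDN : D ≤ N ⊓ N' := by
    rintro _ ⟨e, he, rfl⟩
    exact ⟨hdiff e he p, N'.add_mem (hst e he p hp) hp⟩
  have hDD := card_le_of_smul (ω := ω) hDN (fun c x hx => ⟨hN.smul c x hx.1, hN'.smul c x hx.2⟩) (by
    rintro y ⟨e, he, hy⟩ ⟨e', he', hy'⟩
    by_contra hy0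
    have hyD : y ∈ D := ⟨e, he, hy⟩
    have hyN := (hDN hyD).1
    have hyN' := (hDN hyD).2
    have e1 : e p = y + (1 : F4) • p := by
      rw [← hy, one_smul, add_assoc, vadd_self hF, add_zero]
    have e2 : e' p = ω • y + p := by
      rw [← hy', add_assoc, vadd_self hF, add_zero]
    have R1 : IsR (y + (1 : F4) • p) := by rw [← e1]; exact hisR e he
    have R2 : IsR (y + ω⁻¹ • p) := by
      have h1 : y + ω⁻¹ • p = ω⁻¹ • (ω • y + p) := by
        rw [smul_add, smul_smul, inv_mul_cancel₀ hω0, one_smul]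
      rw [h1, ← e2]
      exact Geo.isR_smul (inv_ne_zero hω0) (hisR e' he')
    obtain ⟨c, -, huniq⟩ := Geo.geo.line p hpR y (hN.H_zero hyN hyN) (hN'.H_zero hyN' hp) (by
      rintro c rfl
      have hc0 : c ≠ 0 := by
        rintro rfl
        exact hy0 (zero_smul _ _)
      apply hpN
      have h1 := hN.smul c⁻¹ _ hyN
      rwa [smul_smul, inv_mul_cancel₀ hc0, one_smul] at h1)
    have h1 := huniq _ R1
    have h2 := huniq _ R2
    apply hω1
    rw [← h1] at h2
    exact inv_eq_one.1 h2)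
  have hlt : Nat.card ↥(N ⊓ N') ≤ 32 := by
    have h1 : N ⊓ N' < N' := lt_of_le_of_ne inf_le_right (fun h => hpN (by
      have h2 : p ∈ N ⊓ N' := by rw [h]; exact hp
      exact h2.1))
    have h2 := AddSubgroup.card_dvd_of_le h1.le
    rw [hN'.card] at h2
    have h3 : Nat.card ↥(N ⊓ N') ≠ 64 := by
      intro h4
      apply h1.ne
      apply AddSubgroup.eq_of_le_of_card_ge h1.le
      rw [h4, hN'.card]
    obtain ⟨k, hk⟩ := h2
    have hk2 : 2 ≤ k := by
      rcases k with _ | _ | k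
      · omega
      · omega
      · omega
    nlinarith
  have h6 : 6 ≤ Nat.card D := by omega
  have h7 : 6 * 6 ≤ Nat.card D * Nat.card D := Nat.mul_le_mul h6 h6
  omega

end Cfsg.Agent.H826.Groups
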