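import Cfsg.Agent.H826.Perp

/-!
# Products of two commuting transvections of `F4 ^ 6` and the maximal totally isotropic subspaces
spanned by `R`-vectors

`T2 r1 r2` is the product of the transvections at the orthogonal `R`-vectors `r1`, `r2`.  `Nice N`: `N` is a
totally isotropic subspace of order 64 spanned by its `R`-vectors.  `Tr N e`: `e` is a product `T2 r1 r2` with
`r1, r2 ∈ N`.
-/

set_option autoImplicit false

namespace Cfsg.Agent.H826.Pairs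

open Cfsg.Agent.SporRec.GF4 Cfsg.Agent.R08 Cfsg.Agent.R08.Iface Cfsg.Agent.R08.InvHerm
open Cfsg.Agent.R08.InvM Cfsg.Agent.R08.InvP Cfsg.Agent.H826.Perp
open Cfsg.Agent.R08.ModVec (W)

/-- `τ_{r1} τ_{r2}` for orthogonal `r1`, `r2` -/
def T2 (r1 r2 w : W) : W := w + H w r1 • r1 + H w r2 • r2

theorem T2_smul {r1 r2 : W} {c d : F4} (hc : c ≠ 0) (hd : d ≠ 0) : T2 (c • r1) (d • r2) = T2 r1 r2 := by
  funext w
  rw [T2, T2, InvLin.smul_tr hF hc, InvLin.smul_tr hF hd]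

theorem T2_swap (r1 r2 : W) : T2 r1 r2 = T2 r2 r1 := by
  funext w
  rw [T2, T2, add_right_comm]

theorem T2_self {r1 : W} {c : F4} (hc : c ≠ 0) : T2 r1 (c • r1) = id := by
  funext w
  rw [T2, InvLin.smul_tr hF hc, add_assoc, vadd_self hF, add_zero]; rfl

/-- the fixed vectors -/
theorem T2_fix {r1 r2 w : W} (p : RPair r1 r2) : T2 r1 r2 w = w ↔ w ∈ pp (sp2 r1 r2) := by
  rw [mem_pp_sp2, T2, add_assoc, add_eq_left]
  constructor
  · intro h
    have h2 : H w r2 = 0 := by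
      by_contra h3
      apply p.ne ((H w r2)⁻¹ * H w r1)
      rw [vadd_eq_zero hF] at h
      rw [← smul_smul, h, smul_smul, inv_mul_cancel₀ h3, one_smul]
    rw [h2, zero_smul, add_zero] at h
    exact ⟨(smul_eq_zero.1 h).resolve_right (Geo.R_ne_zero p.h1), h2⟩
  · rintro ⟨h1, h2⟩
    rw [h1, h2, zero_smul, zero_smul, add_zero]

/-- an `R`-vector of the line is a multiple of one of the two -/
theorem mem_line {r1 r2 r : W} (p : RPair r1 r2) (hr : IsR r) (h : r ∈ sp2 r1 r2) :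
    (∃ c : F4, c ≠ 0 ∧ r = c • r1) ∨ (∃ c : F4, c ≠ 0 ∧ r = c • r2) := by
  obtain ⟨c, d, rfl⟩ := h
  by_cases hc : c = 0
  · right
    subst hc
    rw [zero_smul, zero_add] at hr ⊢
    refine ⟨d, ?_, rfl⟩
    rintro rfl
    rw [zero_smul] at hr
    exact Geo.R_ne_zero hr rfl
  by_cases hd : d = 0
  · left
    subst hd
    rw [zero_smul, add_zero] at hr ⊢
    exact ⟨c, hc, rfl⟩
  exact absurd (S_of_pair hF Geo.geo p hc hd) (fun hS => Geo.not_R_S hr hS)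

/-- if both `R`-vectors of the second pair lie in the line of the first then the products agree -/
theorem T2_eq_of_mem {r1 r2 r3 r4 : W} (p : RPair r1 r2) (p' : RPair r3 r4) (h3 : r3 ∈ sp2 r1 r2)
    (h4 : r4 ∈ sp2 r1 r2) : T2 r3 r4 = T2 r1 r2 := by
  rcases mem_line p p'.h1 h3 with ⟨c, hc, rfl⟩ | ⟨c, hc, rfl⟩
  · rcases mem_line p p'.h2 h4 with ⟨d, hd, rfl⟩ | ⟨d, hd, rfl⟩
    · exfalso
      apply p'.ne (d * c⁻¹)
      rw [smul_smul, mul_assoc, inv_mul_cancel₀ hc, mul_one]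
    · exact T2_smul hc hd
  · rcases mem_line p p'.h2 h4 with ⟨d, hd, rfl⟩ | ⟨d, hd, rfl⟩
    · rw [T2_smul hc hd, T2_swap]
    · exfalso
      apply p'.ne (d * c⁻¹)
      rw [smul_smul, mul_assoc, inv_mul_cancel₀ hc, mul_one]

/-- the common fixed space of two different products has order at most 64 -/
theorem card_inf_le {r1 r2 r3 r4 : W} (p : RPair r1 r2) (p' : RPair r3 r4) (h : T2 r3 r4 ≠ T2 r1 r2) :
    Nat.card ↥(pp (sp2 r1 r2) ⊓ pp (sp2 r3 r4)) ≤ 64 := by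
  have key : ∀ r : W, r ∉ sp2 r1 r2 → (∀ w, H w r3 = 0 ∧ H w r4 = 0 → H w r = 0) →
      Nat.card ↥(pp (sp2 r1 r2) ⊓ pp (sp2 r3 r4)) ≤ 64 := by
    intro r hr hw
    rw [← card_pp_sp3 (Geo.R_ne_zero p.h1) p.ne hr]
    apply Nat.card_le_card_of_injective _ (AddSubgroup.inclusion_injective (show
      pp (sp2 r1 r2) ⊓ pp (sp2 r3 r4) ≤ pp (sp3 r1 r2 r) from ?_))
    intro w hw'
    rw [AddSubgroup.mem_inf, mem_pp_sp2, mem_pp_sp2] at hw'
    exact mem_pp_sp3.2 ⟨hw'.1.1, hw'.1.2, hw w hw'.2⟩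
  by_cases h3 : r3 ∈ sp2 r1 r2
  · by_cases h4 : r4 ∈ sp2 r1 r2
    · exact absurd (T2_eq_of_mem p p' h3 h4) h
    · exact key r4 h4 fun w hw => hw.2
  · exact key r3 h3 fun w hw => hw.1

/-- a totally isotropic space over the prime field orthogonal to a non-isotropic plane is small -/
theorem card_le_of_bad {r1 r2 r3 : W} (p : RPair r1 r2) (h13 : H r1 r3 ≠ 0) {U : AddSubgroup W}
    (hU : U ≤ pp (sp3 r1 r2 r3)) (hUU : U ≤ pp U) : Nat.card U ≤ 16 := by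
  have h10 := Geo.R_ne_zero p.h1
  have h3 : r3 ∉ sp2 r1 r2 := by
    rintro ⟨c, d, rfl⟩
    apply h13
    rw [H_sp2, Geo.H_self_R p.h1, p.perp, mul_zero, mul_zero, add_zero]
  have hY := card_sp3 h10 p.ne h3
  have h1 : U ⊔ sp3 r1 r2 r3 ≤ pp U := by
    apply sup_le hUU
    intro y hy u hu
    exact f2_swap (hU hu y hy)
  have h2 : Nat.card ↥(U ⊓ sp3 r1 r2 r3) ≤ 4 := by
    -- elements `c r1 + d r2` with `c H(r1, r3) + d H(r2, r3) = 0`
    have key : ∀ x ∈ U ⊓ sp3 r1 r2 r3, ∃ d : F4, x = (H r2 r3 * (H r1 r3)⁻¹ * d) • r1 + d • r2 := by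
      intro x hx
      obtain ⟨hxU, c, d, e, rfl⟩ := hx
      have h5 := hU hxU
      rw [mem_pp_sp3] at h5
      obtain ⟨h6, h7, h8⟩ := h5
      rw [H_add_left hF, H_add_left hF, H_smul_left hF, H_smul_left hF, H_smul_left hF,
        Geo.H_self_R p.h1, H_zero_swap hF p.perp, mul_zero, mul_zero, zero_add, zero_add] at h6
      have h31 : H r3 r1 ≠ 0 := fun h => h13 (H_zero_swap hF h)
      have he : e = 0 := (mul_eq_zero.1 h6).resolve_right h31
      subst he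
      rw [zero_smul, add_zero, H_add_left hF, H_smul_left hF, H_smul_left hF] at h8
      refine ⟨d, ?_⟩
      rw [zero_smul, add_zero]
      congr 2
      have e3 : ∀ a b : F4, a + b = 0 → a = b := by decide
      have h9 := e3 _ _ h8
      rw [mul_right_comm, mul_comm (H r2 r3) d, ← h9, mul_assoc, mul_inv_cancel₀ h13, mul_one]
    have h5 : Nat.card ↥(U ⊓ sp3 r1 r2 r3) ≤ Nat.card F4 := by
      choose f hf using fun x : ↥(U ⊓ sp3 r1 r2 r3) => key x x.2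
      apply Nat.card_le_card_of_injective f
      intro x y hxy
      apply Subtype.ext
      rw [hf x, hf y, hxy]
    rwa [hF] at h5
  have h4 := card_sup U (sp3 r1 r2 r3)
  have h5 : Nat.card ↥(U ⊔ sp3 r1 r2 r3) ≤ Nat.card (pp U) :=
    Nat.card_le_card_of_injective _ (AddSubgroup.inclusion_injective h1)
  have h6 := card_pp U
  rw [hY] at h4
  have h7 : Nat.card U * 64 ≤ Nat.card (pp U) * 4 := h4.trans (Nat.mul_le_mul h5 h2)
  by_contra hlt
  push Not at hlt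
  have h8 : 17 * (Nat.card U * 64) ≤ Nat.card U * (Nat.card U * 64) := Nat.mul_le_mul_right _ hlt
  have h9 : Nat.card U * (Nat.card U * 64) ≤ Nat.card U * (Nat.card (pp U) * 4) :=
    Nat.mul_le_mul_left _ h7
  rw [← mul_assoc (Nat.card U) (Nat.card (pp U)), h6] at h9
  omega

/-! ### nice subspaces -/

/-- a maximal totally isotropic subspace spanned by `R`-vectors -/
structure Nice (N : AddSubgroup W) : Prop where
  card : Nat.card N = 64
  perp : pp N = N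
  smul : ∀ (c : F4) (x : W), x ∈ N → c • x ∈ N
  span : ∀ X : AddSubgroup W, (∀ (c : F4) (x : W), x ∈ X → c • x ∈ X) →
    (∀ r ∈ N, IsR r → r ∈ X) → N ≤ X

theorem Nice.H_zero {N : AddSubgroup W} (h : Nice N) {x y : W} (hx : x ∈ N) (hy : y ∈ N) : H x y = 0 := by
  apply zero_of_scalars' hF
  intro c
  rw [← H_smul_right hF]
  have h1 : x ∈ pp N := by rw [h.perp]; exact hx
  exact h1 _ (h.smul c y hy)

theorem Nice.mem_of {N : AddSubgroup W} (h : Nice N) {x : W} (hx : ∀ y ∈ N, H x y = 0) : x ∈ N := by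
  rw [← h.perp]
  exact fun y hy => Or.inl (hx y hy)

theorem smul_sp3 {r1 r2 r3 : W} (c : F4) {x : W} (h : x ∈ sp3 r1 r2 r3) : c • x ∈ sp3 r1 r2 r3 := by
  obtain ⟨a, b, d, rfl⟩ := h
  exact ⟨c * a, c * b, c * d, by rw [smul_add, smul_add, smul_smul, smul_smul, smul_smul]⟩

theorem nice_sp3 {r1 r2 r3 : W} (p : RPair r1 r2) (hr3 : IsR r3) (h13 : H r1 r3 = 0) (h23 : H r2 r3 = 0)
    (h3 : r3 ∉ sp2 r1 r2) : Nice (sp3 r1 r2 r3) := by
  have hc := card_sp3 (Geo.R_ne_zero p.h1) p.ne h3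
  have hle : sp3 r1 r2 r3 ≤ pp (sp3 r1 r2 r3) := by
    rintro _ ⟨c, d, e, rfl⟩
    rw [mem_pp_sp3]
    simp only [H_add_left hF, H_smul_left hF, Geo.H_self_R p.h1, Geo.H_self_R p.h2, Geo.H_self_R hr3,
      p.perp, H_zero_swap hF p.perp, h13, h23, H_zero_swap hF h13, H_zero_swap hF h23, mul_zero,
      add_zero]
    exact ⟨trivial, trivial, trivial⟩
  refine ⟨hc, ?_, fun c x hx => smul_sp3 c hx, ?_⟩
  · symm
    have h1 := card_pp (sp3 r1 r2 r3)
    rw [hc] at h1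
    apply AddSubgroup.eq_of_le_of_card_ge hle
    omega
  · rintro X hX hXR _ ⟨c, d, e, rfl⟩
    exact X.add_mem (X.add_mem (hX _ _ (hXR _ fst_mem p.h1)) (hX _ _ (hXR _ snd_mem p.h2)))
      (hX _ _ (hXR _ thd_mem hr3))

/-- `e` is a product of two transvections at `R`-vectors of `N` -/
def Tr (N : AddSubgroup W) (e : W → W) : Prop := ∃ r1 ∈ N, ∃ r2 ∈ N, RPair r1 r2 ∧ e = T2 r1 r2

theorem Tr.fix {N : AddSubgroup W} (hN : Nice N) {e : W → W} (h : Tr N e) {x : W} (hx : x ∈ N) :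
    e x = x := by
  obtain ⟨r1, h1, r2, h2, p, rfl⟩ := h
  rw [T2_fix p, mem_pp_sp2]
  exact ⟨hN.H_zero hx h1, hN.H_zero hx h2⟩

theorem Tr.add_mem {N : AddSubgroup W} (hN : Nice N) {e : W → W} (h : Tr N e) (x : W) :
    e x + x ∈ N := by
  obtain ⟨r1, h1, r2, h2, p, rfl⟩ := h
  have e1 : T2 r1 r2 x + x = H x r1 • r1 + H x r2 • r2 := by
    rw [T2]
    calc x + H x r1 • r1 + H x r2 • r2 + x = (x + x) + (H x r1 • r1 + H x r2 • r2) := by abel
      _ = _ := by rw [vadd_self hF, zero_add]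
  rw [e1]
  exact N.add_mem (hN.smul _ _ h1) (hN.smul _ _ h2)

/-- the vectors outside `N` fixed by `e` -/
theorem card_fix_sub {N : AddSubgroup W} (hN : Nice N) {e : W → W} (h : Tr N e) :
    Nat.card {w : W // e w = w ∧ w ∉ N} = 192 := by
  obtain ⟨r1, h1, r2, h2, p, rfl⟩ := h
  have hc := card_pp_sp2 (Geo.R_ne_zero p.h1) p.ne
  have hle : N ≤ pp (sp2 r1 r2) := fun x hx => mem_pp_sp2.2 ⟨hN.H_zero hx h1, hN.H_zero hx h2⟩
  have e1 : {w : W | T2 r1 r2 w = w ∧ w ∉ N} = (pp (sp2 r1 r2) : Set W) \ (N : Set W) := by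
    ext w
    rw [Set.mem_ofPred_eq, T2_fix p]
    rfl
  have h3 : Nat.card {w : W // T2 r1 r2 w = w ∧ w ∉ N} =
      Set.ncard {w : W | T2 r1 r2 w = w ∧ w ∉ N} := rfl
  rw [h3, e1, Set.ncard_sdiff hle (Set.toFinite _)]
  have h4 : Set.ncard (pp (sp2 r1 r2) : Set W) = 256 := hc
  have h5 : Set.ncard (N : Set W) = 64 := hN.card
  rw [h4, h5]

/-- different products have no common fixed vector outside `N` -/
theorem eq_of_fix {N : AddSubgroup W} (hN : Nice N) {e e' : W → W} (h : Tr N e) (h' : Tr N e') {w : W}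
    (hw : e w = w) (hw' : e' w = w) (hwN : w ∉ N) : e = e' := by
  obtain ⟨r1, h1, r2, h2, p, rfl⟩ := h
  obtain ⟨r3, h3, r4, h4, p', rfl⟩ := h'
  by_contra hne
  have hc := card_inf_le p p' (Ne.symm hne)
  have hle : N ≤ pp (sp2 r1 r2) ⊓ pp (sp2 r3 r4) := fun x hx =>
    ⟨mem_pp_sp2.2 ⟨hN.H_zero hx h1, hN.H_zero hx h2⟩,
      mem_pp_sp2.2 ⟨hN.H_zero hx h3, hN.H_zero hx h4⟩⟩
  have h5 : N = pp (sp2 r1 r2) ⊓ pp (sp2 r3 r4) := by
    apply AddSubgroup.eq_of_le_of_card_ge hle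
    rw [hN.card]
    exact hc
  apply hwN
  rw [h5]
  exact ⟨(T2_fix p).1 hw, (T2_fix p').1 hw'⟩

/-- a set of products of pairs in `N` has at most 21 elements -/
theorem card_le_of_tr {N : AddSubgroup W} (hN : Nice N) (E : Set (W → W)) (hE : ∀ e ∈ E, Tr N e) :
    E.ncard ≤ 21 := by
  have : Finite E := Set.toFinite E
  let f : (Σ e : E, {w : W // (e : W → W) w = w ∧ w ∉ N}) → {w : W // w ∉ N} :=
    fun x => ⟨x.2.1, x.2.2.2⟩
  have hf : Function.Injective f := by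
    rintro ⟨e, w⟩ ⟨e', w'⟩ h
    have h1 : (w : W) = w' := congrArg Subtype.val h
    have h2 : (e : W → W) = e' := eq_of_fix hN (hE e e.2) (hE e' e'.2) w.2.1
      (by rw [h1]; exact w'.2.1) w.2.2
    obtain rfl : e = e' := Subtype.ext h2
    obtain rfl : w = w' := Subtype.ext h1
    rfl
  have h1 := Nat.card_le_card_of_injective f hf
  have : Fintype E := Fintype.ofFinite E
  rw [Nat.card_sigma, Finset.sum_congr rfl (fun (e : E) _ => card_fix_sub hN (hE e e.2)),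
    Finset.sum_const, Finset.card_univ, smul_eq_mul] at h1
  have h2 : Nat.card {w : W // w ∉ N} = 4032 := by
    have h3 : Nat.card {w : W // w ∉ N} = Set.ncard ((N : Set W)ᶜ) := rfl
    rw [h3, Set.ncard_compl]
    have h5 : Set.ncard (N : Set W) = 64 := hN.card
    rw [h5, card_W]
  rw [h2, ← Nat.card_eq_fintype_card] at h1
  have h3 : E.ncard = Nat.card E := rfl
  omega

/-- the good case: an orthogonal quadruple -/
theorem exists_nice {r1 r2 r3 r4 : W} (p : RPair r1 r2) (p' : RPair r3 r4) (h : T2 r3 r4 ≠ T2 r1 r2)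
    (h13 : H r1 r3 = 0) (h14 : H r1 r4 = 0) (h23 : H r2 r3 = 0) (h24 : H r2 r4 = 0) :
    ∃ N, Nice N ∧ r1 ∈ N ∧ r2 ∈ N ∧ r3 ∈ N ∧ r4 ∈ N ∧ N = pp (sp2 r1 r2) ⊓ pp (sp2 r3 r4) := by
  have key : ∀ N, Nice N → r1 ∈ N → r2 ∈ N → (∀ x, x ∈ N ↔ H x r1 = 0 ∧ H x r2 = 0 ∧ H x r3 = 0 ∧
      H x r4 = 0) → ∃ N, Nice N ∧ r1 ∈ N ∧ r2 ∈ N ∧ r3 ∈ N ∧ r4 ∈ N ∧
        N = pp (sp2 r1 r2) ⊓ pp (sp2 r3 r4) := by
    intro N hN _ _ hx
    refine ⟨N, hN, ?_, ?_, ?_, ?_, ?_⟩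
    · exact (hx _).2 ⟨Geo.H_self_R p.h1, p.perp, h13, h14⟩
    · exact (hx _).2 ⟨H_zero_swap hF p.perp, Geo.H_self_R p.h2, h23, h24⟩
    · exact (hx _).2 ⟨H_zero_swap hF h13, H_zero_swap hF h23, Geo.H_self_R p'.h1, p'.perp⟩
    · exact (hx _).2 ⟨H_zero_swap hF h14, H_zero_swap hF h24, H_zero_swap hF p'.perp,
        Geo.H_self_R p'.h2⟩
    · ext x
      rw [hx, AddSubgroup.mem_inf, mem_pp_sp2, mem_pp_sp2]
      tauto
  have hm : ∀ r, IsR r → H r1 r = 0 → H r2 r = 0 → r ∉ sp2 r1 r2 → H r r3 = 0 → H r r4 = 0 →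
      (∀ x, H x r3 = 0 ∧ H x r4 = 0 → H x r = 0) → ∃ N, Nice N ∧ r1 ∈ N ∧ r2 ∈ N ∧ r3 ∈ N ∧ r4 ∈ N ∧
        N = pp (sp2 r1 r2) ⊓ pp (sp2 r3 r4) := by
    intro r hr h1r h2r hrn hr3 hr4 hx
    have hN := nice_sp3 p hr h1r h2r hrn
    apply key _ hN fst_mem snd_mem
    intro x
    constructor
    · rintro ⟨c, d, e, rfl⟩
      simp only [H_add_left hF, H_smul_left hF, Geo.H_self_R p.h1, Geo.H_self_R p.h2,
        p.perp, H_zero_swap hF p.perp, h13, h23, h14, h24, H_zero_swap hF h1r, H_zero_swap hF h2r, hr3,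
        hr4, mul_zero, add_zero]
      exact ⟨trivial, trivial, trivial, trivial⟩
    · rintro ⟨h1, h2, h3, h4⟩
      rw [← hN.perp, mem_pp_sp3]
      exact ⟨h1, h2, hx x ⟨h3, h4⟩⟩
  by_cases h3 : r3 ∈ sp2 r1 r2
  · by_cases h4 : r4 ∈ sp2 r1 r2
    · exact absurd (T2_eq_of_mem p p' h3 h4) h
    · exact hm r4 p'.h2 h14 h24 h4 (H_zero_swap hF p'.perp) (Geo.H_self_R p'.h2) fun x hx => hx.2
  · exact hm r3 p'.h1 h13 h23 h3 (Geo.H_self_R p'.h1) p'.perp fun x hx => hx.1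

end Cfsg.Agent.H826.Pairs
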