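import Cfsg.Agent.H826.Eight

/-!
# Elementary abelian subgroups of order at least `2 ^ 11` of `C_G(z)`

`L : Lab F4 Q M z`.  `struct`: such a subgroup `B ∋ z` has order `2 ^ 11`, lies in `M`, `B ∩ Q` is the preimage
of a nice subspace `N` and the elements of `B \ Q` act as products of two transvections at vectors of `N`.
`eq_of_norm`: if `B` normalises `B'` then `B = B'`.
-/

set_option autoImplicit false

namespace Cfsg.Agent.H826.Struct

open Cfsg.Agent.SporRec.GF4 Cfsg.Agent.R08 Cfsg.Agent.R08.Iface Cfsg.Agent.R08.InvHerm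
open Cfsg.Agent.R08.InvM Cfsg.Agent.R08.InvP Cfsg.Agent.H826.Perp Cfsg.Agent.H826.Pairs
open Cfsg.Agent.H826.Groups
open Cfsg.Agent.R08.ModVec (W)

variable {G : Type*} [Group G] {Q M : Subgroup G} {z : G}

/-- the action on labels of a subgroup of the centraliser -/
noncomputable def Φ (L : Lab F4 Q M z) (P : Subgroup G) (hP : ∀ x ∈ P, x * z = z * x) :
    P →* Equiv.Perm W where
  toFun x := ⟨L.ρ x, L.ρ (x : G)⁻¹, fun w => L.ρ_inv (hP x x.2) w, fun w => L.ρ_inv' (hP x x.2) w⟩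
  map_one' := Equiv.ext fun w => L.ρ_one w
  map_mul' x y := Equiv.ext fun w => L.ρ_mul (hP x x.2) (hP y y.2) w

theorem Φ_apply (L : Lab F4 Q M z) (P : Subgroup G) (hP : ∀ x ∈ P, x * z = z * x) (x : P) :
    (Φ L P hP x : W → W) = L.ρ x := rfl

theorem Φ_eq_one (L : Lab F4 Q M z) (P : Subgroup G) (hP : ∀ x ∈ P, x * z = z * x) (x : P) :
    Φ L P hP x = 1 ↔ (x : G) ∈ Q := by
  constructor
  · intro h
    apply L.mem_Q _ (hP x x.2)
    intro w
    exact congrArg (fun e : Equiv.Perm W => e w) h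
  · intro h
    exact Equiv.ext fun w => L.ρ_mem_Q h w

theorem card_range (L : Lab F4 Q M z) (P : Subgroup G) (hP : ∀ x ∈ P, x * z = z * x) :
    Nat.card (Φ L P hP).range * Nat.card ↥(P ⊓ Q) = Nat.card P := by
  have h1 := Subgroup.card_mul_index (Φ L P hP).ker
  rw [Subgroup.index_ker, mul_comm] at h1
  rw [← h1]
  congr 1
  have h2 : (Φ L P hP).ker = (P ⊓ Q).subgroupOf P := by
    ext x
    rw [MonoidHom.mem_ker, Φ_eq_one, Subgroup.mem_subgroupOf, Subgroup.mem_inf]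
    exact ⟨fun h => ⟨x.2, h⟩, fun h => h.2⟩
  rw [h2]
  exact (Nat.card_congr (Subgroup.subgroupOfEquivOfLe inf_le_left).toEquiv).symm

/-- the labels of the elements of `B ∩ Q` -/
def lab (L : Lab F4 Q M z) (B : Subgroup G) : AddSubgroup W where
  carrier := {w | ∃ x ∈ B, x ∈ Q ∧ L.v x = w}
  zero_mem' := ⟨1, B.one_mem, Q.one_mem, L.v_one⟩
  add_mem' := by
    rintro _ _ ⟨x, hx, hxQ, rfl⟩ ⟨y, hy, hyQ, rfl⟩
    exact ⟨x * y, B.mul_mem hx hy, Q.mul_mem hxQ hyQ, L.v_mul x hxQ y hyQ⟩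
  neg_mem' := by
    intro x hx
    rw [vneg hF]; exact hx

theorem mem_lab_iff (L : Lab F4 Q M z) {B : Subgroup G} (hz : z ∈ B) {x : G} (hx : x ∈ Q) :
    L.v x ∈ lab L B ↔ x ∈ B := by
  constructor
  · rintro ⟨y, hy, hyQ, h⟩
    rcases (L.v_eq hx hyQ).1 h.symm with h1 | h1
    · rw [h1]; exact hy
    · rw [h1]; exact B.mul_mem hy hz
  · intro h
    exact ⟨x, h, hx, rfl⟩

theorem card_lab (L : Lab F4 Q M z) {B : Subgroup G} (hz : z ∈ B) :
    Nat.card ↥(B ⊓ Q) = 2 * Nat.card (lab L B) :=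
  H824.FiStab.card_pre L (B ⊓ Q) inf_le_right (fun w => w ∈ lab L B)
    (fun x hx => by
      rw [mem_lab_iff L hz hx, Subgroup.mem_inf]
      exact ⟨fun h => h.1, fun h => ⟨h, hx⟩⟩) (lab L B).zero_mem

/-- an elementary abelian subgroup of order at least `2 ^ 11` of the centraliser -/
structure Maxi (z : G) (B : Subgroup G) : Prop where
  cent : ∀ x ∈ B, x * z = z * x
  sq : ∀ x ∈ B, x * x = 1
  card : 2 ^ 11 ≤ Nat.card B

theorem comm_of_sq {B : Subgroup G} (h : ∀ x ∈ B, x * x = 1) {x y : G} (hx : x ∈ B) (hy : y ∈ B) :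
    x * y = y * x := by
  have h1 : ∀ a ∈ B, a⁻¹ = a := fun a ha => inv_eq_of_mul_eq_one_left (h a ha)
  have h2 := h1 _ (B.mul_mem hx hy)
  rw [mul_inv_rev, h1 x hx, h1 y hy] at h2
  exact h2.symm

theorem card_eq_pow [Finite G] {B : Subgroup G} (h : ∀ x ∈ B, x * x = 1) : ∃ n, Nat.card B = 2 ^ n := by
  have : Fact (Nat.Prime 2) := ⟨Nat.prime_two⟩
  have hBp : IsPGroup 2 B := fun y => ⟨1, by
    apply Subtype.ext
    have := h y y.2
    show (y : G) ^ (2 ^ 1) = 1
    rw [pow_one, pow_two, this]⟩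
  exact IsPGroup.iff_card.1 hBp

theorem lab_fix (L : Lab F4 Q M z) {B : Subgroup G} (hc : ∀ x ∈ B, x * z = z * x)
    (h : ∀ x ∈ B, x * x = 1) {b : G} (hb : b ∈ B) {u : W} (hu : u ∈ lab L B) : L.ρ b u = u := by
  obtain ⟨x, hx, hxQ, rfl⟩ := hu
  rw [← L.v_conj b (hc b hb) x hxQ, comm_of_sq h hb hx, mul_inv_cancel_right]

theorem lab_le (L : Lab F4 Q M z) {B : Subgroup G} (h : ∀ x ∈ B, x * x = 1) :
    lab L B ≤ pp (lab L B) := by
  rintro _ ⟨x, hx, hxQ, rfl⟩ _ ⟨y, hy, hyQ, rfl⟩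
  exact (L.comm_iff x hxQ y hyQ).1 (comm_of_sq h hx hy)

theorem card_lab_le (L : Lab F4 Q M z) {B : Subgroup G} (h : ∀ x ∈ B, x * x = 1) :
    Nat.card (lab L B) ≤ 64 := by
  have h1 := card_pp (lab L B)
  have h2 : Nat.card (lab L B) ≤ Nat.card (pp (lab L B)) :=
    Nat.card_le_card_of_injective _ (AddSubgroup.inclusion_injective (lab_le L h))
  by_contra hlt
  push Not at hlt
  have h3 : 65 * 65 ≤ Nat.card (lab L B) * Nat.card (pp (lab L B)) :=
    Nat.mul_le_mul hlt (hlt.trans_le h2)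
  omega

theorem over_of (L : Lab F4 Q M z)
    (even : ∀ f : M →* ℤˣ, (∀ m : M, (m : G) ∈ Q → f m = 1) → ∀ m, f m = 1) {P : Subgroup G}
    (hPM : P ≤ M) (hP : ∀ x ∈ P, x * z = z * x) (hsq : ∀ x ∈ P, x * x ∈ Q) :
    ∀ e ∈ (Φ L P hP).range, e ≠ 1 → ∃ r1 r2, RPair r1 r2 ∧ (e : W → W) = T2 r1 r2 := by
  rintro _ ⟨b, rfl⟩ hb1
  have hbQ : (b : G) ∉ Q := fun h => hb1 ((Φ_eq_one L P hP b).2 h)
  obtain ⟨r1, r2, p, hov⟩ := exists_over Geo.geo L even (hPM b.2) hbQ (hsq b b.2)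
  exact ⟨r1, r2, p, funext hov⟩

theorem Q_le_of (L : Lab F4 Q M z) {B : Subgroup G} : (B ⊓ M) ⊓ Q = B ⊓ Q := by
  rw [inf_assoc, inf_eq_right.2 L.Q_le]

/-- `B ∩ M` has index at most two in `B` -/
theorem card_le_two_mul (L : Lab F4 Q M z) [Finite G] {B : Subgroup G} (hc : ∀ x ∈ B, x * z = z * x) :
    Nat.card B ≤ 2 * Nat.card ↥(B ⊓ M) := by
  classical
  by_cases hBM : B ≤ M
  · rw [inf_eq_left.2 hBM]; omega
  obtain ⟨b, hb, hbM⟩ := Set.not_subset.1 hBM
  have hb' : b ∈ B := hb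
  have hbM' : b ∉ M := hbM
  let f : B → ↥(B ⊓ M) × Bool := fun x =>
    if h : (x : G) ∈ M then (⟨x, x.2, h⟩, true)
    else (⟨b * x, B.mul_mem hb' x.2, L.M_mul b x (hc b hb') (hc x x.2) hbM' h⟩, false)
  have hf : Function.Injective f := by
    intro x y hxy
    simp only [f] at hxy
    split_ifs at hxy with h1 h2 h2
    · exact Subtype.ext (congrArg (fun t : ↥(B ⊓ M) × Bool => (t.1 : G)) hxy)
    · exact absurd (congrArg Prod.snd hxy) (by simp)
    · exact absurd (congrArg Prod.snd hxy) (by simp)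
    · have h3 : b * (x : G) = b * y := congrArg (fun t : ↥(B ⊓ M) × Bool => (t.1 : G)) hxy
      exact Subtype.ext (mul_left_cancel h3)
  have h1 := Nat.card_le_card_of_injective f hf
  rw [Nat.card_prod, Nat.card_eq_fintype_card (α := Bool), Fintype.card_bool] at h1
  omega

theorem card_tr_le {N : AddSubgroup W} (hN : Nice N) {E : Set (Equiv.Perm W)}
    (hE : ∀ e ∈ E, e ≠ 1 → Tr N e) : E.ncard ≤ 22 := by
  have h1 := card_le_of_tr hN ((fun e : Equiv.Perm W => (e : W → W)) '' (E \ {1})) (by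
    rintro _ ⟨e, ⟨he, he1⟩, rfl⟩
    exact hE e he he1)
  rw [Set.ncard_image_of_injective _ Equiv.coe_fn_injective] at h1
  have h2 := Set.ncard_le_ncard_sdiff_add_ncard E {1}
  rw [Set.ncard_singleton] at h2
  omega

variable [Finite G] (L : Lab F4 Q M z)
  (hnwc : ∃ g : G, g * z * g⁻¹ ∈ Q ∧ g * z * g⁻¹ ≠ z)
  (even : ∀ f : M →* ℤˣ, (∀ m : M, (m : G) ∈ Q → f m = 1) → ∀ m, f m = 1)

include hnwc

theorem semi_of_not_mem {c : G} (hc : c * z = z * c) (hcM : c ∉ M) : IsSemi (L.ρ c) := by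
  obtain ⟨g, h1, h2⟩ := hnwc
  exact (H824.FiStab.duo L h1 h2).semi hc hcM

include L even

theorem le_M {B : Subgroup G} (h : Maxi z B) (hz : z ∈ B) : B ≤ M := by
  by_contra hBM
  obtain ⟨b, hb, hbM⟩ := Set.not_subset.1 hBM
  have hb' : b ∈ B := hb
  have hbM' : b ∉ M := hbM
  have hPsq : ∀ x ∈ B ⊓ M, x * x = 1 := fun x hx => h.sq x hx.1
  have hP : ∀ x ∈ B ⊓ M, x * z = z * x := fun x hx => h.cent x hx.1
  have h1 := card_le_two_mul L h.cent
  have h2 := h.card
  have h3 := card_range L (B ⊓ M) hP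
  have h4 := card_lab_le L h.sq
  have h5 := card_lab L hz
  rw [Q_le_of L, h5] at h3
  have h6 : 3 ≤ Nat.card (Φ L (B ⊓ M) hP).range := by
    by_contra hlt
    push Not at hlt
    have h7 : Nat.card (Φ L (B ⊓ M) hP).range * (2 * Nat.card (lab L B)) ≤ 2 * (2 * 64) :=
      Nat.mul_le_mul (Nat.le_of_lt_succ hlt) (Nat.mul_le_mul_left _ h4)
    omega
  have h7 := card_le_of_semi (over_of L even inf_le_right hP (fun x hx => by
    rw [hPsq x hx]; exact Q.one_mem)) h6 (U := lab L B) (by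
      rintro _ ⟨x, rfl⟩ u hu
      exact lab_fix L h.cent h.sq x.2.1 hu)
    (semi_of_not_mem L hnwc (h.cent b hb') hbM') (fun u hu => lab_fix L h.cent h.sq hb' hu)
  have h8 := Eight.card_lt L (B := B ⊓ M) inf_le_right hPsq
  rw [Q_le_of L, h5] at h8
  omega

theorem struct {B : Subgroup G} (h : Maxi z B) (hz : z ∈ B) :
    Nat.card B = 2 ^ 11 ∧ Nat.card ↥(B ⊓ Q) = 2 ^ 7 ∧ Nat.card (Φ L B h.cent).range = 16 ∧
      Nice (lab L B) ∧ ∀ e ∈ (Φ L B h.cent).range, e ≠ 1 → Tr (lab L B) e := by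
  have hBM := le_M L hnwc even h hz
  have h2 := h.card
  have h3 := card_range L B h.cent
  have h4 := card_lab_le L h.sq
  have h5 := card_lab L hz
  have h8 := Eight.card_lt L hBM h.sq
  rw [h5] at h3 h8
  have h6 : 16 ≤ Nat.card (Φ L B h.cent).range := by
    by_contra hlt
    push Not at hlt
    have h7 : Nat.card (Φ L B h.cent).range * (2 * Nat.card (lab L B)) ≤ 15 * (2 * 64) :=
      Nat.mul_le_mul (Nat.le_of_lt_succ hlt) (Nat.mul_le_mul_left _ h4)
    omega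
  rcases dichotomy (over_of L even hBM h.cent (fun x hx => by
    rw [h.sq x hx]; exact Q.one_mem)) (by omega) (U := lab L B) (by
      rintro _ ⟨x, rfl⟩ u hu
      exact lab_fix L h.cent h.sq x.2 hu) (lab_le L h.sq) with h7 | ⟨N, hN, hUN, hE⟩
  · omega
  · have h9 : Nat.card (Φ L B h.cent).range ≤ 22 := card_tr_le hN (E := ((Φ L B h.cent).range :
      Set (Equiv.Perm W))) hE
    obtain ⟨n, hn⟩ := card_eq_pow h.sq
    have h10 : Nat.card (Φ L B h.cent).range ∣ 2 ^ n := by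
      rw [← hn, ← h3]; exact Dvd.intro _ rfl
    obtain ⟨k, -, hk⟩ := (Nat.dvd_prime_pow Nat.prime_two).1 h10
    have h11 : k = 4 := by
      rw [hk] at h6 h9
      have h12 : k < 5 := by
        by_contra hlt
        push Not at hlt
        have := Nat.pow_le_pow_right (show 0 < 2 by norm_num) hlt
        omega
      have h13 : 3 < k := by
        by_contra hlt
        push Not at hlt
        have := Nat.pow_le_pow_right (show 0 < 2 by norm_num) hlt
        omega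
      omega
    rw [h11] at hk
    have hk' : Nat.card (Φ L B h.cent).range = 16 := hk
    rw [hk'] at h3
    have h14 : Nat.card (lab L B) = 64 := by omega
    have h15 : lab L B = N := by
      apply AddSubgroup.eq_of_le_of_card_ge hUN
      rw [h14, hN.card]
    rw [h15]
    exact ⟨by omega, by omega, hk', hN, hE⟩

/-- if `B` normalises `B'` then `B = B'` -/
theorem eq_of_norm {B B' : Subgroup G} (h : Maxi z B) (hz : z ∈ B) (h' : Maxi z B') (hz' : z ∈ B')
    (hn : ∀ b ∈ B, ∀ x ∈ B', b * x * b⁻¹ ∈ B') : B = B' := by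
  obtain ⟨c1, c2, c3, hN, hE⟩ := struct L hnwc even h hz
  obtain ⟨d1, d2, d3, hN', hE'⟩ := struct L hnwc even h' hz'
  have hle : lab L B' ≤ lab L B := by
    apply le_of_stable hN hN' hE (by omega)
    rintro _ ⟨b, rfl⟩ _ ⟨x, hx, hxQ, rfl⟩
    refine ⟨b * x * (b : G)⁻¹, hn b b.2 x hx, L.large.conj_mem b (h.cent b b.2) x hxQ, ?_⟩
    exact L.v_conj b (h.cent b b.2) x hxQ
  have heq : lab L B' = lab L B := by
    apply AddSubgroup.eq_of_le_of_card_ge hle
    rw [hN.card, hN'.card]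
  -- the ranges agree
  have hr : (Φ L B h.cent).range = (Φ L B' h'.cent).range := by
    set E := (Φ L B h.cent).range with hEd
    set E' := (Φ L B' h'.cent).range with hEd'
    have h1 : ((E : Set (Equiv.Perm W)) ∪ E').ncard ≤ 22 := by
      apply card_tr_le hN
      rintro e (he | he) he1
      · exact hE e he he1
      · rw [← heq]; exact hE' e he he1
    have h2 := Set.ncard_union_add_ncard_inter (E : Set (Equiv.Perm W)) E'
    have h3 : (E : Set (Equiv.Perm W)).ncard = 16 := c3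
    have h4 : (E' : Set (Equiv.Perm W)).ncard = 16 := d3
    have h5 : ((E : Set (Equiv.Perm W)) ∩ E').ncard = Nat.card ↥(E ⊓ E') := rfl
    rw [h3, h4, h5] at h2
    have h6 : Nat.card ↥(E ⊓ E') ∣ 16 := by
      rw [← c3]; exact Subgroup.card_dvd_of_le inf_le_left
    have h7 : Nat.card ↥(E ⊓ E') = 16 := by
      obtain ⟨k, hk⟩ := h6
      have hk2 : k < 2 := by
        by_contra hlt
        push Not at hlt
        have := Nat.mul_le_mul_left (Nat.card ↥(E ⊓ E')) hlt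
        omega
      interval_cases k
      · omega
      · omega
    have h8 : E ⊓ E' = E := Subgroup.eq_of_le_of_card_ge inf_le_left (by rw [h7, c3])
    have h9 : E ⊓ E' = E' := Subgroup.eq_of_le_of_card_ge inf_le_right (by rw [h7, d3])
    rw [← h8, h9]
  have hle' : B ≤ B' := by
    intro b hb
    have h1 : Φ L B h.cent ⟨b, hb⟩ ∈ (Φ L B' h'.cent).range := by
      rw [← hr]; exact ⟨⟨b, hb⟩, rfl⟩
    obtain ⟨b', hb'⟩ := h1
    have hρ : ∀ w, L.ρ b' w = L.ρ b w := fun w => congrArg (fun e : Equiv.Perm W => e w) hb'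
    have hbz := h.cent b hb
    have hb'z := h'.cent b' b'.2
    have hy : (b' : G)⁻¹ * b ∈ Q := by
      apply L.mem_Q _ (Lab.mul_comm' (Lab.inv_comm hb'z) hbz)
      intro w
      rw [L.ρ_mul (Lab.inv_comm hb'z) hbz, ← hρ, L.ρ_inv hb'z]
    have hv : L.v ((b' : G)⁻¹ * b) ∈ lab L B' := by
      rw [← hN'.perp]
      rintro _ ⟨x, hx, hxQ, rfl⟩
      rw [← L.comm_iff _ hy x hxQ]
      have hxB : x ∈ B := by
        rw [← mem_lab_iff L hz hxQ, ← heq, mem_lab_iff L hz' hxQ]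
        exact hx
      have e1 := comm_of_sq h.sq hb hxB
      have e2 := comm_of_sq h'.sq (B'.inv_mem b'.2) hx
      rw [mul_assoc, e1, ← mul_assoc, e2, mul_assoc]
    have hyB' := (mem_lab_iff L hz' hy).1 hv
    have e : b = b' * ((b' : G)⁻¹ * b) := by group
    rw [e]
    exact B'.mul_mem b'.2 hyB'
  exact Subgroup.eq_of_le_of_card_ge hle' (by rw [c1, d1])

end Cfsg.Agent.H826.Struct
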